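import Mathlib

/-! # Recognising `SL(2,3)` as `Q₈ ⋊ C₃` -/

set_option autoImplicit false

namespace Cfsg.Agent.Tr.SL23

open QuaternionGroup

abbrev X := QuaternionGroup 2
abbrev S := Matrix.SpecialLinearGroup (Fin 2) (ZMod 3)

def I : S := ⟨!![0,1;2,0], by decide⟩
def J : S := ⟨!![1,1;1,2], by decide⟩

def f : X → S
  | a i => I ^ i.val
  | xa i => J * I ^ i.val

set_option maxRecDepth 100000 in
theorem f_mul : ∀ x y : X, f (x * y) = f x * f y := by decide

def ψX : X →* S := MonoidHom.mk' f f_mul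

set_option maxRecDepth 100000 in
theorem f_inj : ∀ x y : X, f x = f y → x = y := by decide

def F (u v : X) : X → X
  | a i => u ^ i.val
  | xa i => v * u ^ i.val

set_option maxRecDepth 100000 in
theorem D1 : ∀ u v : X, (u ^ 4 = 1 ∧ v ^ 2 = u ^ 2 ∧ v * u * v⁻¹ = u⁻¹ ∧ u ^ 2 ≠ 1) →
    ∀ x, (F u v)^[12] x = x := by decide

set_option maxRecDepth 100000 in
theorem D2 : ∀ u v : X, (u ^ 4 = 1 ∧ v ^ 2 = u ^ 2 ∧ v * u * v⁻¹ = u⁻¹ ∧ u ^ 2 ≠ 1) →
    (∀ x, (F u v)^[3] x = x) → ∃ w : S, w ^ 3 = 1 ∧ ∀ x, f (F u v x) = w * f x * w⁻¹ := by decide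

theorem cardS : Nat.card S = 24 := by
  rw [Nat.card_eq_fintype_card]; decide

theorem beta_eq (β : MulAut X) (x : X) : β x = F (β (a 1)) (β (xa 0)) x := by
  cases x with
  | a i =>
    show β (a i) = (β (a 1)) ^ i.val
    rw [← map_pow, a_one_pow]; simp
  | xa i =>
    show β (xa i) = β (xa 0) * (β (a 1)) ^ i.val
    rw [← map_pow, ← map_mul, a_one_pow, xa_mul_a]; simp

theorem valid (β : MulAut X) : (β (a 1)) ^ 4 = 1 ∧ (β (xa 0)) ^ 2 = (β (a 1)) ^ 2 ∧
    β (xa 0) * β (a 1) * (β (xa 0))⁻¹ = (β (a 1))⁻¹ ∧ (β (a 1)) ^ 2 ≠ 1 := by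
  refine ⟨?_, ?_, ?_, ?_⟩
  · rw [← map_pow, show (a 1 : X) ^ 4 = 1 by decide, map_one]
  · rw [← map_pow, ← map_pow, show (xa 0 : X) ^ 2 = (a 1) ^ 2 by decide]
  · rw [← map_inv, ← map_mul, ← map_mul, ← map_inv,
      show (xa 0 : X) * a 1 * (xa 0)⁻¹ = (a 1)⁻¹ by decide]
  · rw [← map_pow]
    intro h
    have := β.injective (h.trans (map_one β).symm)
    revert this
    decide

theorem pow_apply_iter {A : Type*} [Group A] (β : MulAut A) (n : ℕ) (x : A) :
    (β ^ n) x = (⇑β)^[n] x := by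
  induction n generalizing x with
  | zero => simp
  | succ n ih => rw [pow_succ, MulAut.mul_apply, ih, Function.iterate_succ_apply]

theorem coe_eq_F (β : MulAut X) : (⇑β : X → X) = F (β (a 1)) (β (xa 0)) := funext (beta_eq β)

theorem pow_three_eq_one (β : MulAut X) {q : ℕ} (hq : Odd q) (hβ : β ^ q = 1) : β ^ 3 = 1 := by
  have h12 : β ^ 12 = 1 := by
    ext x
    rw [pow_apply_iter, coe_eq_F, D1 _ _ (valid β), MulAut.one_apply]
  have h1 : orderOf β ∣ 4 * 3 := orderOf_dvd_of_pow_eq_one h12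
  have h2 : orderOf β ∣ q := orderOf_dvd_of_pow_eq_one hβ
  have h3 : Nat.Coprime (orderOf β) 4 := by
    have h4 : Nat.Coprime q 4 := by
      have : Nat.Coprime q 2 := Nat.coprime_two_right.mpr hq
      exact Nat.Coprime.pow_right 2 this
    exact Nat.Coprime.coprime_dvd_left h2 h4
  exact orderOf_dvd_iff_pow_eq_one.mp (h3.dvd_of_dvd_mul_left h1)

theorem exists_w (β : MulAut X) (h3 : β ^ 3 = 1) :
    ∃ w : S, w ^ 3 = 1 ∧ ∀ x, ψX (β x) = w * ψX x * w⁻¹ := by
  obtain ⟨w, hw, h⟩ := D2 _ _ (valid β) (by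
    intro x
    rw [← coe_eq_F, ← pow_apply_iter, h3, MulAut.one_apply])
  refine ⟨w, hw, fun x => ?_⟩
  rw [beta_eq β x]
  exact h x

theorem intertwine {A B : Type*} [Group A] [Group B] (ψ : A →* B) (β : MulAut A) (γ : MulAut B)
    (h : ∀ x, ψ (β x) = γ (ψ x)) : ∀ (k : ℤ) (x : A), ψ ((β ^ k) x) = (γ ^ k) (ψ x) := by
  have hinv : ∀ x, ψ (β⁻¹ x) = γ⁻¹ (ψ x) := by
    intro x
    apply γ.injective
    rw [← h, MulAut.apply_inv_self, MulAut.apply_inv_self]
  intro k
  induction k using Int.induction_on with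
  | zero => intro x; simp
  | succ n ih =>
    intro x
    rw [zpow_add_one, zpow_add_one, MulAut.mul_apply, MulAut.mul_apply, ih, h]
  | pred n ih =>
    intro x
    rw [zpow_sub_one, zpow_sub_one, MulAut.mul_apply, MulAut.mul_apply, ih, hinv]

/-- `Q₈⟨g⟩` with `g` of odd order acting nontrivially maps onto `SL(2,3)`. -/
theorem exists_surj {H : Type*} [Group H] (Q : Subgroup H) [Q.Normal] (e : Q ≃* X) (g : H)
    (hodd : Odd (orderOf g)) (hnc : ∃ y ∈ Q, g * y * g⁻¹ ≠ y)
    (htop : ∀ h : H, ∃ y ∈ Q, ∃ k : ℤ, h = y * g ^ k) :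
    ∃ ψ : H →* S, Function.Surjective ψ := by
  let c : H →* MulAut Q := MulAut.conjNormal
  let φ : Multiplicative ℤ →* MulAut X :=
    (MulAut.congr e).toMonoidHom.comp (c.comp (zpowersHom H g))
  set β : MulAut X := MulAut.congr e (c g) with hβdef
  have hφ : ∀ k : Multiplicative ℤ, φ k = β ^ (Multiplicative.toAdd k) := by
    intro k
    show MulAut.congr e (c (zpowersHom H g k)) = _
    rw [zpowersHom_apply, map_zpow, map_zpow]
  have hβq : β ^ orderOf g = 1 := by
    rw [hβdef, ← map_pow, ← map_pow, pow_orderOf_eq_one, map_one, map_one]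
  have hβne : β ≠ 1 := by
    intro h
    have h1 : c g = 1 := (MulAut.congr e).injective (h.trans (map_one _).symm)
    obtain ⟨y, hy, hne⟩ := hnc
    apply hne
    have h2 := congrArg (fun t : MulAut Q => ((t ⟨y, hy⟩ : Q) : H)) h1
    simpa [c, MulAut.conjNormal_apply] using h2
  have hβ3 : β ^ 3 = 1 := pow_three_eq_one β hodd hβq
  obtain ⟨w, hw3, hw⟩ := exists_w β hβ3
  have hwk : ∀ (k : ℤ) (x : X), ψX ((β ^ k) x) = w ^ k * ψX x * (w ^ k)⁻¹ := by
    intro k x
    have := intertwine ψX β (MulAut.conj w) (fun x => by rw [hw, MulAut.conj_apply]) k x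
    rw [this, ← map_zpow, MulAut.conj_apply]
  let σ : X ⋊[φ] Multiplicative ℤ →* S := SemidirectProduct.lift ψX (zpowersHom S w) (by
    intro k
    ext1 x
    show ψX (φ k x) = MulAut.conj (zpowersHom S w k) (ψX x)
    rw [hφ, hwk, zpowersHom_apply, MulAut.conj_apply])
  let π : X ⋊[φ] Multiplicative ℤ →* H :=
    SemidirectProduct.lift (Q.subtype.comp e.symm.toMonoidHom) (zpowersHom H g) (by
      intro k
      ext1 x
      show ((e.symm (φ k x) : Q) : H) = MulAut.conj (zpowersHom H g k) ((e.symm x : Q) : H)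
      have h0 : φ k x = e (c (zpowersHom H g k) (e.symm x)) := rfl
      rw [h0, e.symm_apply_apply, MulAut.conjNormal_apply, MulAut.conj_apply])
  have hπ : Function.Surjective π := by
    intro h
    obtain ⟨y, hy, k, rfl⟩ := htop h
    refine ⟨⟨e ⟨y, hy⟩, Multiplicative.ofAdd k⟩, ?_⟩
    show ((e.symm (e ⟨y, hy⟩) : Q) : H) * zpowersHom H g (Multiplicative.ofAdd k) = _
    rw [e.symm_apply_apply, zpowersHom_apply, toAdd_ofAdd]
  have hcardQ : Nat.card Q = 8 := by
    rw [Nat.card_congr e.toEquiv, Nat.card_eq_fintype_card, QuaternionGroup.card]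
  have hord3 : orderOf β = 3 := orderOf_eq_prime hβ3 hβne
  have h3g : 3 ∣ orderOf g := hord3 ▸ orderOf_dvd_of_pow_eq_one hβq
  have hker : π.ker ≤ σ.ker := by
    intro b hb
    rw [MonoidHom.mem_ker] at hb ⊢
    have hb' : ((e.symm b.left : Q) : H) * g ^ (Multiplicative.toAdd b.right) = 1 := by
      have : π b = ((e.symm b.left : Q) : H) * zpowersHom H g b.right := rfl
      rw [this, zpowersHom_apply] at hb
      exact hb
    set t : H := g ^ (Multiplicative.toAdd b.right) with ht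
    have htQ : t ∈ Q := by
      have : t = ((e.symm b.left : Q) : H)⁻¹ := (eq_inv_of_mul_eq_one_right hb')
      rw [this]
      exact Q.inv_mem (e.symm b.left).2
    have ht8 : t ^ 8 = 1 := by
      have : (⟨t, htQ⟩ : Q) ^ Nat.card Q = 1 := pow_card_eq_one'
      rw [hcardQ] at this
      exact congrArg Subtype.val this
    have htq : t ^ orderOf g = 1 := by
      rw [ht, ← zpow_natCast, ← zpow_mul, mul_comm, zpow_mul, zpow_natCast, pow_orderOf_eq_one,
        one_zpow]
    have ht1 : t = 1 := by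
      have h1 : orderOf t ∣ 8 := orderOf_dvd_of_pow_eq_one ht8
      have h2 : orderOf t ∣ orderOf g := orderOf_dvd_of_pow_eq_one htq
      have h3 : Nat.Coprime (orderOf g) 8 := by
        have : Nat.Coprime (orderOf g) 2 := Nat.coprime_two_right.mpr hodd
        exact Nat.Coprime.pow_right 3 this
      have h4 : orderOf t ∣ 1 := by
        have := Nat.dvd_gcd h2 h1
        rwa [h3] at this
      exact orderOf_eq_one_iff.mp (Nat.dvd_one.mp h4)
    have hx1 : b.left = 1 := by
      rw [ht1, mul_one] at hb'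
      have : e.symm b.left = 1 := Subtype.ext hb'
      exact e.symm.injective (this.trans (map_one _).symm)
    have hdvd : (3 : ℤ) ∣ Multiplicative.toAdd b.right := by
      have h1 : ((orderOf g : ℕ) : ℤ) ∣ Multiplicative.toAdd b.right :=
        orderOf_dvd_iff_zpow_eq_one.mpr ht1
      exact dvd_trans (by exact_mod_cast h3g) h1
    have : σ b = ψX b.left * zpowersHom S w b.right := rfl
    rw [this, hx1, map_one, one_mul, zpowersHom_apply]
    obtain ⟨j, hj⟩ := hdvd
    rw [hj, zpow_mul, zpow_ofNat, hw3, one_zpow]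
  let ψ : H →* S := π.liftOfSurjective hπ ⟨σ, hker⟩
  have hψ : ∀ b, ψ (π b) = σ b := fun b => MonoidHom.liftOfRightInverse_comp_apply _ _ _ _ b
  have hwne : w ≠ 1 := by
    intro h
    apply hβne
    ext x
    apply f_inj
    have := hw x
    rw [h, one_mul, inv_one, mul_one] at this
    exact this
  have hσ : Function.Surjective σ := by
    rw [← MonoidHom.range_eq_top]
    apply Subgroup.eq_top_of_card_eq
    have h8 : 8 ∣ Nat.card σ.range := by
      have hle : ψX.range ≤ σ.range := by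
        rintro _ ⟨x, rfl⟩
        exact ⟨SemidirectProduct.inl x, SemidirectProduct.lift_inl _ _ _ x⟩
      have hc : Nat.card ψX.range = 8 := by
        rw [Nat.card_congr (MonoidHom.ofInjective (f := ψX) (fun x y h => f_inj x y h)).symm.toEquiv,
          Nat.card_eq_fintype_card, QuaternionGroup.card]
      have := Subgroup.card_dvd_of_le hle
      rwa [hc] at this
    have h3 : 3 ∣ Nat.card σ.range := by
      have hle : Subgroup.zpowers w ≤ σ.range := by
        rw [Subgroup.zpowers_le]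
        refine ⟨SemidirectProduct.inr (Multiplicative.ofAdd 1), ?_⟩
        rw [SemidirectProduct.lift_inr, zpowersHom_apply, toAdd_ofAdd, zpow_one]
      have hc : Nat.card (Subgroup.zpowers w) = 3 := by
        rw [Nat.card_zpowers]; exact orderOf_eq_prime hw3 hwne
      have := Subgroup.card_dvd_of_le hle
      rwa [hc] at this
    have h24 : 24 ∣ Nat.card σ.range :=
      (Nat.Coprime.mul_dvd_of_dvd_of_dvd (by norm_num : Nat.Coprime 8 3) h8 h3)
    have hle : Nat.card σ.range ∣ Nat.card S := Subgroup.card_subgroup_dvd_card σ.range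
    rw [cardS] at hle ⊢
    exact Nat.dvd_antisymm hle h24
  refine ⟨ψ, fun s => ?_⟩
  obtain ⟨b, rfl⟩ := hσ s
  exact ⟨π b, hψ b⟩

end Cfsg.Agent.Tr.SL23
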