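import Mathlib
import Cfsg.Agent.Tr.Frobenius
import Cfsg.Agent.H1.Coprime

set_option autoImplicit false

namespace Cfsg.Agent.Tr

open Cfsg Cfsg.Agent.H12
open scoped commutatorElement

variable {G : Type*} [Group G]

theorem frob_of_isNilpotent [Finite G] {p : ℕ} [Fact p.Prime] (h : Group.IsNilpotent G) : Frob p G := by
  intro Q hQ g hg hco
  set A := Subgroup.zpowers g with hA
  have hAQ : A ≤ Subgroup.normalizer (Q : Set G) := Subgroup.zpowers_le.mpr hg
  have hcop : (Nat.card A).Coprime (Nat.card Q) := by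
    rw [Nat.card_zpowers]
    obtain ⟨n, hn⟩ := IsPGroup.iff_card.mp hQ
    rw [hn]; exact hco.pow_right n
  have hst := Cfsg.H1.coprime_commutator_stable A Q hAQ hcop (Or.inl inferInstance)
  have hl : ∀ n, ⁅Q, A⁆ ≤ (⊤ : Subgroup G).lowerCentralSeries n := by
    intro n
    induction n with
    | zero => simp
    | succ n ih =>
      rw [← hst]
      exact Subgroup.commutator_mono ih le_top
  obtain ⟨n, hn⟩ := Subgroup.nilpotent_iff_lowerCentralSeries.mp h
  have h0 : ⁅Q, A⁆ = ⊥ := by rw [eq_bot_iff, ← hn]; exact hl n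
  rw [Subgroup.commutator_eq_bot_iff_le_centralizer] at h0
  rw [Subgroup.mem_centralizer_iff]
  intro q hq
  have := Subgroup.mem_centralizer_iff.mp (h0 hq) g (Subgroup.mem_zpowers g)
  exact this.symm

theorem hasNormalPComplement_of_isNilpotent [Finite G] {p : ℕ} [Fact p.Prime] (h : Group.IsNilpotent G) :
    HasNormalPComplement p G := (frob_of_isNilpotent h).hasNormalPComplement

end Cfsg.Agent.Tr
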