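import Mathlib
import Cfsg.Agent.Tr.Control
import Cfsg.Agent.Tr.MinNonPNil

set_option autoImplicit false

namespace Cfsg.Agent.Tr

open Cfsg Cfsg.Agent.H12
open scoped commutatorElement

variable {G : Type*} [Group G]

/-- A Sylow subgroup of a Hall subgroup, as a Sylow subgroup of `G`. -/
lemma exists_sylow_le_hall [Finite G] {p : ℕ} [hp : Fact p.Prime] (H : Subgroup G)
    (hHall : Nat.Coprime (Nat.card H) H.index) (hpH : p ∣ Nat.card H) (P₀ : Sylow p H) :
    ∃ P : Sylow p G, (P : Subgroup G) = (P₀ : Subgroup H).map H.subtype := by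
  have h1 : IsPGroup p ((P₀ : Subgroup H).map H.subtype) := P₀.2.map _
  have h2 : ¬ p ∣ ((P₀ : Subgroup H).map H.subtype).index := by
    rw [Subgroup.index_map_subtype]
    intro h
    rcases (Nat.Prime.dvd_mul hp.out).mp h with h | h
    · exact P₀.not_dvd_index h
    · exact Nat.Prime.not_coprime_iff_dvd.mpr ⟨p, hp.out, hpH, h⟩ hHall
  exact ⟨h1.toSylow h2, rfl⟩

/-- If a nilpotent Hall subgroup `H` controls fusion of its elements, `G` has a normal `p`-complement
for all primes `p` dividing `|H|`. -/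
theorem hasNormalPComplement_of_hall_control [Finite G] {p : ℕ} [hp : Fact p.Prime] (H : Subgroup G)
    (hH : Group.IsNilpotent H) (hHall : Nat.Coprime (Nat.card H) H.index) (hpH : p ∣ Nat.card H)
    (hctl : ∀ x ∈ H, ∀ y ∈ H, (∃ g : G, g * x * g⁻¹ = y) → ∃ h ∈ H, h * x * h⁻¹ = y) :
    HasNormalPComplement p G := by
  obtain ⟨P₀⟩ : Nonempty (Sylow p H) := inferInstance
  obtain ⟨P, hP⟩ := exists_sylow_le_hall H hHall hpH P₀
  rw [hasNormalPComplement_iff_controls_elements P]
  intro x hx u hu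
  have hx' : x ∈ (P₀ : Subgroup H).map H.subtype := hP ▸ hx
  have hu' : u * x * u⁻¹ ∈ (P₀ : Subgroup H).map H.subtype := hP ▸ hu
  obtain ⟨x₀, hx₀, rfl⟩ := hx'
  obtain ⟨y₀, hy₀, e⟩ := hu'
  obtain ⟨h, hh, e2⟩ := hctl x₀ x₀.2 y₀ y₀.2 ⟨u, e.symm⟩
  have e3 : (⟨h, hh⟩ : H) * x₀ * (⟨h, hh⟩ : H)⁻¹ = y₀ := Subtype.ext e2
  obtain ⟨z, hz, e4⟩ := (frob_of_isNilpotent (p := p) hH).controls_elements P₀ hx₀ (u := ⟨h, hh⟩) (by rw [e3]; exact hy₀)
  refine ⟨z, ?_, ?_⟩
  · have : (z : G) ∈ (P₀ : Subgroup H).map H.subtype := ⟨z, hz, rfl⟩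
    show (z : G) ∈ (P : Subgroup G)
    rw [hP]; exact this
  · rw [e3] at e4
    have := congrArg Subtype.val e4
    rw [← e]
    exact this

/-- intersection of the `O^p(G)` over the primes dividing `n`. -/
noncomputable def piResidual (n : ℕ) (G : Type*) [Group G] : Subgroup G :=
  ⨅ p ∈ n.primeFactors, pResidual p G

instance piResidual_normal (n : ℕ) (G : Type*) [Group G] : (piResidual n G).Normal := by
  unfold piResidual
  apply Subgroup.normal_iInf_normal
  intro p
  apply Subgroup.normal_iInf_normal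
  intro _
  infer_instance

theorem isComplement'_piResidual [Finite G] (H : Subgroup G) (hHall : Nat.Coprime (Nat.card H) H.index)
    (h : ∀ p : ℕ, p.Prime → p ∣ Nat.card H → (Nat.card (pResidual p G)).Coprime p) :
    (piResidual (Nat.card H) G).IsComplement' H := by
  set N := piResidual (Nat.card H) G with hN
  have hHpos : Nat.card H ≠ 0 := Nat.card_pos.ne'
  have hle : ∀ p : ℕ, p.Prime → p ∣ Nat.card H → N ≤ pResidual p G := by
    intro p hp hd
    exact iInf₂_le (f := fun p (_ : p ∈ (Nat.card H).primeFactors) => pResidual p G) p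
      (Nat.mem_primeFactors.mpr ⟨hp, hd, hHpos⟩)
  -- `|N|` coprime to `|H|`
  have h1 : (Nat.card N).Coprime (Nat.card H) := by
    apply Nat.Coprime.symm
    apply Nat.coprime_of_dvd
    intro p hp hd hd2
    have := h p hp hd
    exact (Nat.Prime.coprime_iff_not_dvd hp).mp this.symm (hd2.trans (Subgroup.card_dvd_of_le (hle p hp hd)))
  -- exponent of `G/N` divides `|H|`
  have h2 : ∀ x : G, x ^ Nat.card H ∈ N := by
    intro x
    rw [hN, piResidual, Subgroup.mem_iInf]
    intro p
    rw [Subgroup.mem_iInf]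
    intro hp
    have hpp := (Nat.mem_primeFactors.mp hp).1
    have hd := (Nat.mem_primeFactors.mp hp).2.1
    have : Fact p.Prime := ⟨hpp⟩
    -- `|G / O^p(G)|` divides `|H|`
    have hq := isPGroup_quotient_pResidual (G := G) p
    obtain ⟨a, ha⟩ := IsPGroup.iff_card.mp hq
    have h3 : p ^ a ∣ Nat.card H := by
      have h4 : p ^ a ∣ Nat.card H * H.index := by
        rw [Subgroup.card_mul_index, ← ha]
        exact (pResidual p G).index_dvd_card
      have h5 : (p ^ a).Coprime H.index := by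
        apply Nat.Coprime.pow_left
        exact Nat.Coprime.coprime_dvd_left hd hHall
      exact h5.dvd_of_dvd_mul_right h4
    rw [← QuotientGroup.eq_one_iff, QuotientGroup.mk_pow]
    obtain ⟨c, hc⟩ := h3
    rw [hc, pow_mul, ← ha, pow_card_eq_one', one_pow]
  -- `|G:N|` coprime to `|G:H|`
  have h3 : (N.index).Coprime H.index := by
    apply Nat.coprime_of_dvd
    intro r hr hd hd2
    have : Fact r.Prime := ⟨hr⟩
    have hd' : r ∣ Nat.card (G ⧸ N) := hd
    obtain ⟨y, hy⟩ := exists_prime_orderOf_dvd_card' r hd'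
    obtain ⟨x, rfl⟩ := QuotientGroup.mk'_surjective _ y
    have h4 : (QuotientGroup.mk' N x) ^ Nat.card H = 1 := by
      rw [← map_pow]; exact (QuotientGroup.eq_one_iff _).mpr (h2 x)
    have h5 := orderOf_dvd_of_pow_eq_one h4
    rw [hy] at h5
    exact Nat.Prime.not_coprime_iff_dvd.mpr ⟨r, hr, h5, hd2⟩ hHall
  have e1 : Nat.card N * N.index = Nat.card H * H.index := by
    rw [Subgroup.card_mul_index, Subgroup.card_mul_index]
  have h4 : Nat.card N ∣ H.index := h1.dvd_of_dvd_mul_left (e1 ▸ Dvd.intro _ rfl)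
  have h5 : H.index ∣ Nat.card N := h3.symm.dvd_of_dvd_mul_right (e1 ▸ Dvd.intro_left _ rfl)
  have h6 : Nat.card N = H.index := Nat.dvd_antisymm h4 h5
  apply Subgroup.isComplement'_of_coprime _ h1
  rw [h6, mul_comm, Subgroup.card_mul_index]

end Cfsg.Agent.Tr
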