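import Mathlib
import Cfsg.Agent.Tr.HallNil
import Cfsg.Agent.Lib.Helper16.PClosed

set_option autoImplicit false

namespace Cfsg.Agent.Tr

open Cfsg Cfsg.Agent.H12
open scoped commutatorElement

/-- Schmidt-type lemma: a nontrivial finite group all of whose proper subgroups are nilpotent has
`O^q(K) ≠ K` for some prime `q`. -/
theorem exists_pResidual_ne_top {K : Type*} [Group K] [Finite K] [Nontrivial K]
    (h : ∀ L : Subgroup K, L ≠ ⊤ → Group.IsNilpotent L) :
    ∃ q : ℕ, q.Prime ∧ q ∣ Nat.card K ∧ pResidual q K ≠ ⊤ := by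
  have hcard : Nat.card K ≠ 1 := by
    intro h1
    have := (Nat.card_eq_one_iff_unique.mp h1).1
    exact not_subsingleton K this
  obtain ⟨p, hp, hpd⟩ := Nat.exists_prime_and_dvd hcard
  have : Fact p.Prime := ⟨hp⟩
  by_cases hF : Frob p K
  · refine ⟨p, hp, hpd, fun htop => ?_⟩
    have := hF.coprime_of_pResidual_eq_top htop
    exact (Nat.Prime.coprime_iff_not_dvd hp).mp this.symm hpd
  · unfold Frob at hF
    push Not at hF
    obtain ⟨Q, hQ, g, hg, hco, hnc⟩ := hF
    have htop : Q ⊔ Subgroup.zpowers g = ⊤ := by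
      by_contra hne
      have hF := frob_of_isNilpotent (p := p) (h _ hne)
      have hgH : g ∈ Q ⊔ Subgroup.zpowers g :=
        (le_sup_right : _ ≤ Q ⊔ Subgroup.zpowers g) (Subgroup.mem_zpowers g)
      have h3 := hF (Q.subgroupOf (Q ⊔ Subgroup.zpowers g)) hQ.comap_subtype ⟨g, hgH⟩ (by
        rw [Subgroup.mem_normalizer_iff] at hg ⊢
        intro x
        exact hg x) (by rwa [← Subgroup.orderOf_coe])
      apply hnc
      rw [Subgroup.mem_centralizer_iff] at h3 ⊢
      intro q hq
      exact congrArg Subtype.val (h3 ⟨q, (le_sup_left : Q ≤ Q ⊔ Subgroup.zpowers g) hq⟩ hq)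
    have hQn : Q.Normal := by
      rw [← Subgroup.normalizer_eq_top_iff, eq_top_iff, ← htop]
      exact sup_le Subgroup.le_normalizer (Subgroup.zpowers_le.mpr hg)
    have hdec : ∀ x : K, ∃ q ∈ Q, ∃ k : ℤ, x = q * g ^ k := by
      intro x
      have hx : x ∈ Q ⊔ Subgroup.zpowers g := htop ▸ Subgroup.mem_top x
      obtain ⟨q, hq, z, hz, e⟩ := Subgroup.mem_sup_of_normal_left.mp hx
      obtain ⟨k, rfl⟩ := Subgroup.mem_zpowers_iff.mp hz
      exact ⟨q, hq, k, e.symm⟩
    have hab : commutator K ≤ Q := by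
      rw [commutator_def, Subgroup.commutator_le]
      intro x _ y _
      obtain ⟨q₁, hq₁, a, rfl⟩ := hdec x
      obtain ⟨q₂, hq₂, b, rfl⟩ := hdec y
      rw [← QuotientGroup.eq_one_iff, commutatorElement_def]
      have e1 : ((q₁ : K) : K ⧸ Q) = 1 := (QuotientGroup.eq_one_iff _).mpr hq₁
      have e2 : ((q₂ : K) : K ⧸ Q) = 1 := (QuotientGroup.eq_one_iff _).mpr hq₂
      simp only [QuotientGroup.mk_mul, QuotientGroup.mk_inv, QuotientGroup.mk_zpow, e1, e2, one_mul]
      rw [← zpow_add, add_comm, zpow_add]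
      group
    have hg1 : orderOf g ≠ 1 := by
      intro h1
      rw [orderOf_eq_one_iff] at h1
      apply hnc
      rw [h1]; exact one_mem _
    obtain ⟨q, hq, hqd⟩ := Nat.exists_prime_and_dvd hg1
    have hqK : q ∣ Nat.card K := hqd.trans (orderOf_dvd_natCard g)
    refine ⟨q, hq, hqK, fun htop' => ?_⟩
    have : Fact q.Prime := ⟨hq⟩
    obtain ⟨S⟩ : Nonempty (Sylow q K) := inferInstance
    have h1 := (sylow_le_commutator_of_pResidual_eq_top S htop').trans hab
    have h2 : IsPGroup p (S : Subgroup K) := hQ.to_le h1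
    have hne := S.ne_bot_of_dvd_card hqK
    apply hne
    rw [← Subgroup.card_eq_one]
    obtain ⟨a, ha⟩ := IsPGroup.iff_card.mp h2
    obtain ⟨b, hb⟩ := IsPGroup.iff_card.mp S.2
    have hpq : p ≠ q := by
      rintro rfl
      exact (Nat.Prime.coprime_iff_not_dvd hp).mp hco.symm hqd
    have hcop : (p ^ a).Coprime (q ^ b) := Nat.Coprime.pow a b ((Nat.coprime_primes hp hq).mpr hpq)
    rw [← ha, ← hb] at hcop
    exact (Nat.coprime_self _).mp hcop

variable {G : Type*} [Group G]

open Cfsg.Agent.Lib.Helper16 in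
lemma wielandt_core [Finite G] (H : Subgroup G) (hH : Group.IsNilpotent H)
    (hHall : Nat.Coprime (Nat.card H) H.index) {q : ℕ} [Fact q.Prime] (hqH : q ∣ Nat.card H)
    (K : Subgroup G) (hM : (pResidual q K).map K.subtype ≤ H) :
    ∃ n : G, K.map (MulAut.conj n).toMonoidHom ≤ H := by
  set M := (pResidual q K).map K.subtype with hMdef
  obtain ⟨P₀⟩ : Nonempty (Sylow q H) := inferInstance
  obtain ⟨P, hP⟩ := exists_sylow_le_hall H hHall hqH P₀
  have hPH : (P : Subgroup G) ≤ H := by rw [hP]; exact Subgroup.map_subtype_le _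
  have hcen : M ≤ Subgroup.centralizer ((P : Subgroup G) : Set G) := by
    have hMle : M ≤ H := hM
    rw [hMdef, pResidual_map_subtype] at hMle ⊢
    rw [Subgroup.closure_le]
    intro x hx
    have hxH : x ∈ H := hMle (Subgroup.subset_closure hx)
    have h1 := frob_of_isNilpotent (p := q) hH (P₀ : Subgroup H) P₀.2 ⟨x, hxH⟩
      (Subgroup.le_normalizer_of_normal (H := (P₀ : Subgroup H)) (K := ⊤) trivial)
      (by rw [← Subgroup.orderOf_coe]; exact hx.2)
    rw [SetLike.mem_coe, Subgroup.mem_centralizer_iff]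
    intro y hy
    have hy' : y ∈ (P₀ : Subgroup H).map H.subtype := hP ▸ hy
    obtain ⟨y₀, hy₀, rfl⟩ := hy'
    exact congrArg Subtype.val (Subgroup.mem_centralizer_iff.mp h1 y₀ hy₀)
  have hPN : (P : Subgroup G) ≤ Subgroup.normalizer (M : Set G) :=
    (Subgroup.le_centralizer_iff.mp hcen).trans (Subgroup.centralizer_le_normalizer _)
  have hKN : K ≤ Subgroup.normalizer (M : Set G) :=
    Subgroup.le_normalizer.trans (normalizer_le_normalizer_pResidual K)
  obtain ⟨S₀⟩ : Nonempty (Sylow q K) := inferInstance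
  have hKq : (S₀ : Subgroup K).map K.subtype ≤ K := Subgroup.map_subtype_le _
  obtain ⟨n, hn, hle⟩ := exists_conj_le_of_relIndex hPN P.2 (sylow_not_dvd_relIndex P hPN)
    (hKq.trans hKN) (S₀.2.map K.subtype)
  refine ⟨n, ?_⟩
  have hK : K = M ⊔ (S₀ : Subgroup K).map K.subtype := by
    rw [hMdef, ← Subgroup.map_sup, pResidual_sup_sylow S₀, ← MonoidHom.range_eq_map, Subgroup.range_subtype]
  rw [hK, Subgroup.map_sup]
  refine sup_le ?_ (hle.trans hPH)
  have : M.map (MulAut.conj n).toMonoidHom = M := Subgroup.mem_normalizer_iff_map_conj_eq.mp hn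
  rw [this]; exact hM

open Cfsg.Agent.Lib.Helper16 in
/-- **Wielandt**: if `G` has a nilpotent Hall subgroup `H`, every subgroup whose order only involves primes
dividing `|H|` is conjugate into `H`. -/
theorem wielandt [Finite G] (H : Subgroup G) (hH : Group.IsNilpotent H)
    (hHall : Nat.Coprime (Nat.card H) H.index) (K : Subgroup G)
    (hK : ∀ p : ℕ, p.Prime → p ∣ Nat.card K → p ∣ Nat.card H) :
    ∃ n : G, K.map (MulAut.conj n).toMonoidHom ≤ H := by
  suffices key : ∀ (m : ℕ) (K : Subgroup G), Nat.card K = m →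
      (∀ p : ℕ, p.Prime → p ∣ Nat.card K → p ∣ Nat.card H) →
      ∃ n : G, K.map (MulAut.conj n).toMonoidHom ≤ H from key _ K rfl hK
  intro m
  induction m using Nat.strong_induction_on with
  | _ m ih =>
    intro K hm hK
    by_cases hKb : K = ⊥
    · exact ⟨1, by rw [hKb, Subgroup.map_bot]; exact bot_le⟩
    have hnt : Nontrivial K := (Subgroup.nontrivial_iff_ne_bot K).mpr hKb
    -- induction hypothesis for proper subgroups
    have IH : ∀ L : Subgroup K, L ≠ ⊤ → ∃ n : G, (L.map K.subtype).map (MulAut.conj n).toMonoidHom ≤ H := by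
      intro L hL
      have hc : Nat.card (L.map K.subtype) = Nat.card L :=
        Subgroup.card_map_of_injective K.subtype_injective
      refine ih (Nat.card (L.map K.subtype)) ?_ _ rfl ?_
      · rw [hc, ← hm]
        refine lt_of_le_of_ne (Subgroup.card_le_card_group L) ?_
        intro h
        exact hL ((Subgroup.card_eq_iff_eq_top L).mp h)
      · intro p hp hd
        rw [hc] at hd
        exact hK p hp (hd.trans (Subgroup.card_subgroup_dvd_card L))
    have hprop : ∀ L : Subgroup K, L ≠ ⊤ → Group.IsNilpotent L := by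
      intro L hL
      obtain ⟨n, hn⟩ := IH L hL
      let f : L →* H :=
        { toFun := fun l => ⟨n * (l : K) * n⁻¹, hn ⟨((l : K) : G), ⟨(l : K), l.2, rfl⟩, rfl⟩⟩
          map_one' := by ext; simp
          map_mul' := by intro a b; ext; simp [mul_assoc] }
      have hf : f.ker ≤ Subgroup.center L := by
        intro l hl
        have h1 : f l = 1 := hl
        have h2 : n * ((l : K) : G) * n⁻¹ = 1 := congrArg Subtype.val h1
        have h3 : ((l : K) : G) = 1 := by
          have : ((l : K) : G) = n⁻¹ * (n * ((l : K) : G) * n⁻¹) * n := by group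
          rw [this, h2]; group
        have h4 : l = 1 := by ext; exact h3
        rw [h4]; exact one_mem _
      exact Subgroup.isNilpotent_of_ker_le_center f hf
    obtain ⟨q, hq, hqK, hne⟩ := exists_pResidual_ne_top hprop
    have : Fact q.Prime := ⟨hq⟩
    obtain ⟨x, hx⟩ := IH _ hne
    rw [pResidual_map_subtype_cj] at hx
    obtain ⟨n, hn⟩ := wielandt_core H hH hHall (hK q hq hqK) _ hx
    rw [map_conj_mul] at hn
    exact ⟨_, hn⟩

/-- relative form of Wielandt's theorem -/
theorem wielandt_rel [Finite G] (C H K : Subgroup G) (hHC : H ≤ C) (hKC : K ≤ C) (hH : Group.IsNilpotent H)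
    (hHall : Nat.Coprime (Nat.card H) H.index)
    (hK : ∀ p : ℕ, p.Prime → p ∣ Nat.card K → p ∣ Nat.card H) :
    ∃ c ∈ C, K.map (MulAut.conj c).toMonoidHom ≤ H := by
  have e1 : Nat.card (H.subgroupOf C) = Nat.card H := Nat.card_congr (Subgroup.subgroupOfEquivOfLe hHC).toEquiv
  have e2 : Nat.card (K.subgroupOf C) = Nat.card K := Nat.card_congr (Subgroup.subgroupOfEquivOfLe hKC).toEquiv
  have hn : Group.IsNilpotent (H.subgroupOf C) :=
    Group.nilpotent_of_mulEquiv (Subgroup.subgroupOfEquivOfLe hHC).symm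
  obtain ⟨c, hc⟩ := wielandt (H.subgroupOf C) hn (by
      rw [e1]
      exact Nat.Coprime.coprime_dvd_right (Subgroup.relIndex_dvd_index_of_le hHC) hHall)
    (K.subgroupOf C) (by rw [e1, e2]; exact hK)
  refine ⟨c, c.2, ?_⟩
  rintro _ ⟨k, hk, rfl⟩
  have h1 : (MulAut.conj c).toMonoidHom ⟨k, hKC hk⟩ ∈ H.subgroupOf C :=
    hc ⟨⟨k, hKC hk⟩, hk, rfl⟩
  exact h1

end Cfsg.Agent.Tr
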