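import Mathlib
import Cfsg.Agent.S0925
import Cfsg.Agent.BlockLib.LocalRing
import Cfsg.Agent.CharLib.Coprime
import Cfsg.Agent.CharLib.L.CenterIndex
import Cfsg.Agent.CharLib.L.Linear
import Cfsg.Agent.CharLib.L.AbelianIndex
import Cfsg.Agent.H25.Codeg2
import Cfsg.Agent.Lib.Helper23.DefectZero

/-! Kazarin's theorem, character-theoretic part. -/

set_option autoImplicit false

namespace Cfsg.Agent.Tr.Kaz

open Cfsg Cfsg.Agent.BlockLib Cfsg.Agent.CharLib Cfsg.Agent.CharLib.L Cfsg.Agent.H25 Module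

variable {G : Type*} [Group G]

theorem hom_eq_one_of_normalClosure {H : Type*} [Group H] {x : G}
    (hx : Subgroup.normalClosure ({x} : Set G) = ⊤) (f : G →* H) (h : f x = 1) (g : G) :
    f g = 1 := by
  have h1 : Subgroup.normalClosure ({x} : Set G) ≤ f.ker :=
    Subgroup.normalClosure_le_normal (by simpa using h)
  rw [hx] at h1
  exact h1 (Subgroup.mem_top g)

theorem scalar_of_normalClosure {V : Type*} [AddCommGroup V] [Module ℂ V]
    (ρ : Representation ℂ G V) {x : G} (hx : Subgroup.normalClosure ({x} : Set G) = ⊤)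
    (h : ∃ ω : ℂ, ρ x = ω • (1 : End ℂ V)) (g : G) : ∃ ω : ℂ, ρ g = ω • (1 : End ℂ V) := by
  have hg : g ∈ Subgroup.normalClosure ({x} : Set G) := by rw [hx]; trivial
  unfold Subgroup.normalClosure at hg
  induction hg using Subgroup.closure_induction with
  | mem y hy =>
    obtain ⟨ω, hω⟩ := h
    rw [Group.mem_conjugatesOfSet_iff] at hy
    obtain ⟨a, ha, hay⟩ := hy
    rw [Set.mem_singleton_iff] at ha
    subst ha
    obtain ⟨c, rfl⟩ := isConj_iff.mp hay
    refine ⟨ω, ?_⟩
    rw [map_mul, map_mul, hω, mul_smul_comm, mul_one, smul_mul_assoc, ← map_mul, mul_inv_cancel,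
      map_one]
  | one => exact ⟨1, by simp⟩
  | mul a b _ _ ha hb =>
    obtain ⟨α, hα⟩ := ha
    obtain ⟨β, hβ⟩ := hb
    exact ⟨α * β, by rw [map_mul, hα, hβ, smul_mul_smul_comm, mul_one]⟩
  | inv a _ ha =>
    obtain ⟨α, hα⟩ := ha
    refine ⟨α⁻¹, ?_⟩
    have h1 : ρ a * ρ a⁻¹ = 1 := by rw [← map_mul, mul_inv_cancel, map_one]
    rw [hα, smul_mul_assoc, one_mul] at h1
    by_cases h0 : α = 0
    · rw [h0, zero_smul] at h1
      have : ∀ f : End ℂ V, f = 0 := fun f => by rw [← mul_one f, ← h1, mul_zero]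
      rw [this (ρ a⁻¹), this (α⁻¹ • (1 : End ℂ V))]
    · rw [← h1, smul_smul, inv_mul_cancel₀ h0, one_smul]

theorem finrank_eq_one_of_scalar [Finite G] {V : Type*} [AddCommGroup V] [Module ℂ V]
    [FiniteDimensional ℂ V]
    (ρ : Representation ℂ G V) [ρ.IsIrreducible] {x : G}
    (hx : Subgroup.normalClosure ({x} : Set G) = ⊤)
    (h : ∃ ω : ℂ, ρ x = ω • (1 : End ℂ V)) : finrank ℂ V = 1 := by
  have h1 := finrank_dvd_index_of_scalar ρ ⊤ (fun g _ => scalar_of_normalClosure ρ hx h g)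
  rw [Subgroup.index_top] at h1
  exact Nat.dvd_one.mp h1

theorem commutator_le_kerSub_iff [Finite G] (χ : IrrCharacter G) :
    commutator G ≤ kerSub χ ↔ (χ : G → ℂ) 1 = 1 := by
  constructor
  · intro h
    obtain ⟨χ', hχ'⟩ := exists_quotient_irr χ (commutator G) h
    have h1 := irr_apply_one_of_comm (G := G ⧸ commutator G) (fun a b => mul_comm (G := Abelianization G) a b) χ'
    rw [← hχ' 1]
    exact h1
  · intro h
    rw [commutator_eq_closure, Subgroup.closure_le]
    rintro _ ⟨a, b, rfl⟩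
    rw [SetLike.mem_coe, mem_kerSub, h, commutatorElement_def]
    exact irr_commutator_of_apply_one_eq_one χ h a b

theorem lin_pow_eq_one [Finite G] (χ : IrrCharacter G) (h : (χ : G → ℂ) 1 = 1) {x : G}
    (hx : Subgroup.normalClosure ({x} : Set G) = ⊤) {n : ℕ} (hn : x ^ n = 1) (g : G) :
    (χ : G → ℂ) g ^ n = 1 := by
  have h2 := irr_mul_of_apply_one_eq_one χ h
  let f : G →* ℂ := { toFun := χ, map_one' := h, map_mul' := h2 }
  have h3 := hom_eq_one_of_normalClosure hx ((powMonoidHom n).comp f.toHomUnits) (by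
    ext
    simp only [MonoidHom.comp_apply, powMonoidHom_apply, Units.val_pow_eq_pow_val,
      MonoidHom.coe_toHomUnits, Units.val_one]
    rw [← map_pow, hn, map_one]) g
  have h4 := congrArg Units.val h3
  have h5 : f g ^ n = 1 := by simpa using h4
  exact h5

theorem lin_mem_principalBlock [Finite G] {q : ℕ} {M : Ideal AlgInt} (hM : IsPModular q M)
    (χ : IrrCharacter G) (h : (χ : G → ℂ) 1 = 1) {x : G}
    (hx : Subgroup.normalClosure ({x} : Set G) = ⊤) {b : ℕ} (hn : x ^ q ^ b = 1) :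
    χ ∈ principalBlock M G := by
  have := isPrime_of_isPModular hM
  intro g
  have h1 := memLocalIdeal_sub_one_of_pow_eq_one hM (lin_pow_eq_one χ h hx hn g)
  have h2 : centralChar (fun _ : G => (1 : ℂ)) g - centralChar (χ : G → ℂ) g =
      (((Subgroup.centralizer ({g} : Set G)).index : ℕ) : ℂ) * (-((χ : G → ℂ) g - 1)) := by
    unfold centralChar
    rw [h]; ring
  rw [h2]
  exact memLocalIdeal_mul_left (memLocalRing_natCast (ne_top_of_isPModular hM) _)
    (memLocalIdeal_neg h1)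

theorem index_commutator_eq_pow [Finite G] {q : ℕ} [Fact q.Prime] {x : G}
    (hx : Subgroup.normalClosure ({x} : Set G) = ⊤) {b : ℕ} (hn : x ^ q ^ b = 1) :
    ∃ c : ℕ, (commutator G).index = q ^ c := by
  have h1 : IsPGroup q (Abelianization G) := by
    intro z
    obtain ⟨g, rfl⟩ := QuotientGroup.mk_surjective z
    refine ⟨b, ?_⟩
    exact hom_eq_one_of_normalClosure hx ((powMonoidHom (q ^ b)).comp (Abelianization.of (G := G)))
      (by simp only [MonoidHom.comp_apply, powMonoidHom_apply]; rw [← map_pow, hn, map_one]) g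
  obtain ⟨c, hc⟩ := (IsPGroup.iff_card).mp h1
  exact ⟨c, hc⟩

theorem principal_deg [Finite G] {p q : ℕ} (hp : p.Prime) (hpq : p ≠ q) {M : Ideal AlgInt}
    (hM : IsPModular q M) {x : G} (hx : Subgroup.normalClosure ({x} : Set G) = ⊤) {a : ℕ}
    (hidx : (Subgroup.centralizer ({x} : Set G)).index = p ^ a)
    (χ : IrrCharacter G) (hχ : χ ∈ principalBlock M G) :
    (χ : G → ℂ) 1 = 1 ∨ p ∣ charDegree (χ : G → ℂ) := by
  have := isPrime_of_isPModular hM
  by_cases hdvd : p ∣ charDegree (χ : G → ℂ)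
  · exact Or.inr hdvd
  left
  have hx0 : (χ : G → ℂ) x ≠ 0 := by
    intro h0
    have h1 := hχ x
    unfold centralChar at h1
    rw [h0, hidx] at h1
    have h2 : MemLocalIdeal M ((p ^ a : ℕ) : ℂ) := by simpa using h1
    rw [memLocalIdeal_natCast_iff hM] at h2
    exact hpq ((Nat.prime_dvd_prime_iff_eq hM.1 hp).mp (hM.1.dvd_of_dvd_pow h2)).symm
  obtain ⟨n, ρ, hirr, hch⟩ := χ.2
  have := hirr
  have hfr : finrank ℂ (Fin n → ℂ) = n := by simp
  have h1 : (χ : G → ℂ) 1 = (n : ℂ) := by rw [← hch, Representation.char_one, hfr]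
  have hdeg : charDegree (χ : G → ℂ) = n := charDegree_of_apply_one h1
  rw [hdeg] at hdvd
  have hcop : Nat.Coprime (finrank ℂ (Fin n → ℂ)) (Subgroup.centralizer ({x} : Set G)).index := by
    rw [hfr, hidx]
    exact Nat.Coprime.pow_right a ((Nat.Prime.coprime_iff_not_dvd hp).mpr hdvd).symm
  rw [← hch] at hx0
  have hnorm := (character_eq_zero_or_norm_eq ρ x hcop).resolve_left hx0
  have h2 := finrank_eq_one_of_scalar ρ hx ((norm_character_eq_iff ρ x).mp hnorm)
  rw [h1, ← hfr, h2]; simp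

open Classical in
theorem not_dvd_card_commutator [Finite G] {p q : ℕ} (hp : p.Prime) (hq : q.Prime) (hpq : p ≠ q)
    {x : G} (hx : Subgroup.normalClosure ({x} : Set G) = ⊤) {a b : ℕ}
    (hidx : (Subgroup.centralizer ({x} : Set G)).index = p ^ a) (hn : x ^ q ^ b = 1) :
    ¬ q ∣ Nat.card (commutator G) := by
  intro hdvd
  have : Fact q.Prime := ⟨hq⟩
  obtain ⟨M, hM⟩ := Cfsg.Agent.Lib.Helper23.exists_isPModular q hq
  obtain ⟨y, hy⟩ := exists_prime_orderOf_dvd_card' q hdvd
  have hyo : orderOf (y : G) = q := by rw [Subgroup.orderOf_coe, hy]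
  have hy1 : (y : G) ≠ 1 := by
    intro h
    rw [h, orderOf_one] at hyo
    exact hq.one_lt.ne hyo
  have horth := (Cfsg.Agent.S0925.result q M hM).2 (y : G) 1 (y : G) 1
    ⟨1, mul_one _, Commute.one_right _, ⟨1, by rw [hyo, pow_one]⟩, by
      rw [orderOf_one]; exact hq.one_lt.ne' ∘ Nat.dvd_one.mp⟩
    ⟨1, mul_one _, Commute.one_right _, ⟨0, by rw [orderOf_one, pow_zero]⟩, by
      rw [orderOf_one]; exact hq.one_lt.ne' ∘ Nat.dvd_one.mp⟩
    (by
      intro h
      exact hy1 (isConj_one_left.mp h))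
    (principalBlock M G) ⟨⟨fun _ => 1, isIrrCharacter_one⟩, rfl⟩
  rw [finsum_mem_eq_finite_toFinset_sum _ (Set.toFinite _)] at horth
  obtain ⟨c, hc⟩ := index_commutator_eq_pow (q := q) hx hn
  have hsq := sum_sq_of_le_ker (commutator G)
  rw [hc] at hsq
  -- each term
  have hpC : (p : ℂ) ≠ 0 := by exact_mod_cast hp.ne_zero
  have hterm : ∀ χ : IrrCharacter G, IsIntegral ℤ
      (((if χ ∈ principalBlock M G then (χ : G → ℂ) (y : G) * (χ : G → ℂ) 1⁻¹ else 0) -
        ((if commutator G ≤ kerSub χ then charDegree (χ : G → ℂ) ^ 2 else 0 : ℕ) : ℂ)) / p) := by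
    intro χ
    by_cases hlin : (χ : G → ℂ) 1 = 1
    · have h1 := lin_mem_principalBlock hM χ hlin hx hn
      have h2 := (commutator_le_kerSub_iff χ).mpr hlin
      have h3 : (χ : G → ℂ) (y : G) = 1 := by
        have := h2 y.2
        rw [mem_kerSub, hlin] at this
        exact this
      have h4 : charDegree (χ : G → ℂ) = 1 := charDegree_of_apply_one (by rw [hlin]; simp)
      rw [if_pos h1, if_pos h2, h3, inv_one, hlin, h4]
      simp [isIntegral_zero]
    · have h2 : ¬ commutator G ≤ kerSub χ := fun h => hlin ((commutator_le_kerSub_iff χ).mp h)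
      rw [if_neg h2]
      by_cases h1 : χ ∈ principalBlock M G
      · rw [if_pos h1]
        obtain ⟨m, hm⟩ := (principal_deg hp hpq hM hx hidx χ h1).resolve_left hlin
        rw [inv_one, charDegree_irr χ, hm]
        have : ((χ : G → ℂ) (y : G) * ((p * m : ℕ) : ℂ) - ((0 : ℕ) : ℂ)) / p =
            (χ : G → ℂ) (y : G) * (m : ℂ) := by
          push_cast; field_simp; ring
        rw [this]
        exact (isCharacter_isIntegral (isCharacter_of_irr χ.2) _).mul
          (isIntegral_algebraMap (R := ℤ) (x := (m : ℤ)))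
      · rw [if_neg h1]; simp [isIntegral_zero]
  have hsum : IsIntegral ℤ (∑ χ : IrrCharacter G,
      (((if χ ∈ principalBlock M G then (χ : G → ℂ) (y : G) * (χ : G → ℂ) 1⁻¹ else 0) -
        ((if commutator G ≤ kerSub χ then charDegree (χ : G → ℂ) ^ 2 else 0 : ℕ) : ℂ)) / p)) :=
    IsIntegral.sum _ (fun χ _ => hterm χ)
  rw [← Finset.sum_div, Finset.sum_sub_distrib, ← Nat.cast_sum, hsq] at hsum
  have h5 : ∑ χ : IrrCharacter G,
      (if χ ∈ principalBlock M G then (χ : G → ℂ) (y : G) * (χ : G → ℂ) 1⁻¹ else 0) = 0 := by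
    rw [← Finset.sum_filter]
    refine Eq.trans ?_ horth
    apply Finset.sum_congr _ (fun _ _ => rfl)
    ext χ; simp
  rw [h5, zero_sub, neg_div] at hsum
  have h6 : p ∣ q ^ c := dvd_of_isIntegral_div hp.ne_zero (by rw [← neg_neg (_ / _)]; exact hsum.neg)
  exact hpq ((Nat.prime_dvd_prime_iff_eq hp hq).mp (hp.dvd_of_dvd_pow h6))

end Cfsg.Agent.Tr.Kaz
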