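import Mathlib
import Cfsg.Agent.Tr.Kaz1
import Cfsg.Agent.H9.Sig
import Cfsg.Agent.H1.Basic
import Cfsg.Agent.H1.CoprimeSylow

/-! Kazarin's theorem: group-theoretic part. -/

set_option autoImplicit false

namespace Cfsg.Agent.Tr.Kaz

open Subgroup

universe u

section rad
variable {G : Type*} [Group G]

/-- the solvable radical -/
def rad (G : Type*) [Group G] : Subgroup G := sSup {N : Subgroup G | N.Normal ∧ Group.IsSolvable N}

theorem isSolvable_of_le {H K : Subgroup G} (h : H ≤ K) (hK : Group.IsSolvable K) :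
    Group.IsSolvable H :=
  Group.isSolvable_of_isSolvable_injective (f := Subgroup.inclusion h) (Subgroup.inclusion_injective h)

theorem rad_spec [Finite G] : (rad G).Normal ∧ Group.IsSolvable (rad G) := by
  classical
  have hfin : {N : Subgroup G | N.Normal ∧ Group.IsSolvable N}.Finite := Set.toFinite _
  have h1 : rad G = hfin.toFinset.sup id := by
    rw [Finset.sup_id_eq_sSup]; simp [rad]
  rw [h1]
  refine Finset.sup_mem {N : Subgroup G | N.Normal ∧ Group.IsSolvable N} ⟨inferInstance, inferInstance⟩
    ?_ _ _ (fun i hi => by simpa using hi)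
  rintro X ⟨hXn, hXs⟩ Y ⟨hYn, hYs⟩
  exact ⟨Subgroup.sup_normal X Y,
    Cfsg.H9.isSolvable_sup_of_le_normalizer (by rw [Subgroup.normalizer_eq_top]; exact le_top) hXs hYs⟩

theorem le_rad {N : Subgroup G} (hn : N.Normal) (hs : Group.IsSolvable N) : N ≤ rad G :=
  le_sSup ⟨hn, hs⟩

instance rad_normal [Finite G] : (rad G).Normal := rad_spec.1

instance rad_characteristic [Finite G] : (rad G).Characteristic := by
  rw [Subgroup.characteristic_iff_map_le]
  intro φ
  apply le_rad
  · exact Subgroup.Normal.map rad_spec.1 _ φ.surjective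
  · haveI := (rad_spec (G := G)).2
    exact Group.isSolvable_of_surjective (f := φ.toMonoidHom.subgroupMap (rad G))
      (MonoidHom.subgroupMap_surjective _ _)

theorem isSolvable_normalClosure_iff [Finite G] (x : G) :
    Group.IsSolvable (normalClosure ({x} : Set G)) ↔ x ∈ rad G := by
  constructor
  · intro h
    exact le_rad normalClosure_normal h (subset_normalClosure (Set.mem_singleton x))
  · intro h
    exact isSolvable_of_le (normalClosure_le_normal (by simpa using h)) rad_spec.2

end rad

variable {G : Type u} [Group G]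

theorem normalClosure_le_of_index [Finite G] {p a : ℕ} (hp : p.Prime) {x : G}
    (hidx : (centralizer ({x} : Set G)).index = p ^ a) (H : Subgroup G) (hxH : x ∈ H)
    (hH : ¬ p ∣ H.index) : normalClosure ({x} : Set G) ≤ H := by
  unfold normalClosure
  rw [closure_le]
  intro y hy
  rw [Group.mem_conjugatesOfSet_iff] at hy
  obtain ⟨z, hz, hzy⟩ := hy
  rw [Set.mem_singleton_iff] at hz
  subst hz
  obtain ⟨g, rfl⟩ := isConj_iff.mp hzy
  obtain ⟨u, hu, c, hc, rfl⟩ := Cfsg.H1.exists_mul_of_coprime_index H (centralizer ({z} : Set G))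
    (by rw [hidx]; exact Nat.Coprime.pow_right a ((Nat.Prime.coprime_iff_not_dvd hp).mpr hH).symm) g
  rw [mem_centralizer_singleton_iff] at hc
  have : u * c * z * (u * c)⁻¹ = u * z * u⁻¹ := by
    rw [mul_inv_rev, mul_assoc u c z, hc]; group
  rw [this]
  exact H.mul_mem (H.mul_mem hu hxH) (H.inv_mem hu)

/-- the `p`-element case -/
theorem isSolvable_of_pElement [Finite G] {p a b : ℕ} (hp : p.Prime) {x : G}
    (hidx : (centralizer ({x} : Set G)).index = p ^ a) (hn : x ^ p ^ b = 1) :
    Group.IsSolvable (normalClosure ({x} : Set G)) := by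
  haveI : Fact p.Prime := ⟨hp⟩
  have h1 : IsPGroup p (zpowers x) := by
    rw [IsPGroup.iff_card]
    rw [Nat.card_zpowers]
    exact (Nat.dvd_prime_pow hp).mp (orderOf_dvd_of_pow_eq_one hn) |>.imp fun _ h => h.2
  obtain ⟨P, hP⟩ := h1.exists_le_sylow
  have h2 := normalClosure_le_of_index hp hidx (P : Subgroup G) (hP (mem_zpowers x)) P.not_dvd_index
  haveI : Group.IsNilpotent (P : Subgroup G) := P.2.isNilpotent
  exact isSolvable_of_le h2 inferInstance

/-- the generating case -/
theorem isSolvable_of_top [Finite G] {p q a b : ℕ} (hp : p.Prime) (hq : q.Prime) (hpq : p ≠ q) {x : G}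
    (hx : normalClosure ({x} : Set G) = ⊤)
    (hidx : (centralizer ({x} : Set G)).index = p ^ a) (hn : x ^ q ^ b = 1) :
    Group.IsSolvable G := by
  haveI : Fact p.Prime := ⟨hp⟩
  haveI : Fact q.Prime := ⟨hq⟩
  have hK := not_dvd_card_commutator hp hq hpq hx hidx hn
  obtain ⟨c, hc⟩ := index_commutator_eq_pow (q := q) hx hn
  have hcop : (Nat.card (zpowers x)).Coprime (Nat.card (commutator G)) := by
    rw [Nat.card_zpowers]
    refine Nat.Coprime.coprime_dvd_left (orderOf_dvd_of_pow_eq_one hn) ?_
    exact Nat.Coprime.pow_left b ((Nat.Prime.coprime_iff_not_dvd hq).mpr hK)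
  obtain ⟨P, hP⟩ := (Cfsg.H1.coprime_sylow_aux (zpowers x) (commutator G)
    (by rw [normalizer_eq_top]; exact le_top) hcop (Or.inl inferInstance) p).1
  have hidxP : ¬ p ∣ ((P : Subgroup (commutator G)).map (commutator G).subtype ⊔ zpowers x).index := by
    intro h
    have h1 := h.trans (index_dvd_of_le
      (le_sup_left : (P : Subgroup (commutator G)).map (commutator G).subtype ≤ _ ⊔ zpowers x))
    rw [index_map_subtype, hc] at h1
    rcases (Nat.Prime.dvd_mul hp).mp h1 with h2 | h2
    · exact P.not_dvd_index h2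
    · exact hpq ((Nat.prime_dvd_prime_iff_eq hp hq).mp (hp.dvd_of_dvd_pow h2))
  have h2 := normalClosure_le_of_index hp hidx _ (le_sup_right (a := (P : Subgroup (commutator G)).map (commutator G).subtype) (mem_zpowers x)) hidxP
  rw [hx] at h2
  have hPs : Group.IsSolvable ((P : Subgroup (commutator G)).map (commutator G).subtype) := by
    haveI : Group.IsNilpotent (P : Subgroup (commutator G)) := P.2.isNilpotent
    exact Group.isSolvable_of_surjective (f := (commutator G).subtype.subgroupMap (P : Subgroup (commutator G)))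
      (MonoidHom.subgroupMap_surjective _ _)
  have h3 := isSolvable_of_le h2 (Cfsg.H9.isSolvable_sup_of_le_normalizer hP hPs inferInstance)
  exact Group.isSolvable_of_surjective (f := (⊤ : Subgroup G).subtype) (fun g => ⟨⟨g, trivial⟩, rfl⟩)

end Cfsg.Agent.Tr.Kaz
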