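import Mathlib
import Cfsg.Agent.Tr.Kaz2
import Cfsg.Agent.H4.PRegClass

/-! Kazarin's theorem: the inductions. -/

set_option autoImplicit false

namespace Cfsg.Agent.Tr.Kaz

open Subgroup

universe u

theorem centralizer_subtype {G : Type*} [Group G] (N : Subgroup G) (x : N) :
    (centralizer ({x} : Set N)) = (centralizer ({(x : G)} : Set G)).subgroupOf N := by
  ext y
  simp only [mem_centralizer_iff, Set.mem_singleton_iff, forall_eq, mem_subgroupOf]
  rw [Subtype.ext_iff]
  simp

theorem kaz_q_aux {p q : ℕ} (hp : p.Prime) (hq : q.Prime) (hpq : p ≠ q) (n : ℕ) :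
    ∀ (G : Type u) [Group G] [Finite G], Nat.card G = n → ∀ (x : G) (a b : ℕ),
      (centralizer ({x} : Set G)).index = p ^ a → x ^ q ^ b = 1 → x ∈ rad G := by
  induction n using Nat.strong_induction_on with
  | _ n ih =>
  intro G _ _ hG x a b hidx hn
  by_cases hx : normalClosure ({x} : Set G) = ⊤
  · have := isSolvable_of_top hp hq hpq hx hidx hn
    exact le_rad (N := ⊤) inferInstance inferInstance (mem_top x)
  · have hxN : x ∈ normalClosure ({x} : Set G) := subset_normalClosure (Set.mem_singleton x)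
    have hlt : Nat.card (normalClosure ({x} : Set G)) < n := by
      rw [← hG]
      by_contra hcon
      exact hx (eq_top_of_le_card _ (not_lt.mp hcon))
    have hidx' : (centralizer ({(⟨x, hxN⟩ : normalClosure ({x} : Set G))} :
        Set (normalClosure ({x} : Set G)))).index ∣ p ^ a := by
      rw [centralizer_subtype, ← hidx]
      exact Cfsg.Agent.H4.relIndex_dvd_index_of_normal_right' _ _
    obtain ⟨a', _, ha'⟩ := (Nat.dvd_prime_pow hp).1 hidx'
    have h1 := ih _ hlt (normalClosure ({x} : Set G)) rfl ⟨x, hxN⟩ a' b ha'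
      (by ext; simpa using hn)
    have h2 : x ∈ (rad (normalClosure ({x} : Set G))).map (normalClosure ({x} : Set G)).subtype :=
      ⟨⟨x, hxN⟩, h1, rfl⟩
    refine le_rad inferInstance ?_ h2
    have := (rad_spec (G := normalClosure ({x} : Set G))).2
    exact Group.isSolvable_of_surjective
      (f := (normalClosure ({x} : Set G)).subtype.subgroupMap (rad (normalClosure ({x} : Set G))))
      (MonoidHom.subgroupMap_surjective _ _)

theorem kaz_aux {G : Type u} [Group G] [Finite G] {p : ℕ} (hp : p.Prime) (n : ℕ) :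
    ∀ (x : G) (a : ℕ), orderOf x = n →
      (centralizer ({x} : Set G)).index = p ^ a → x ∈ rad G := by
  induction n using Nat.strong_induction_on with
  | _ n ih =>
  intro x a hxn hidx
  have hn0 : n ≠ 0 := by rw [← hxn]; exact (orderOf_pos x).ne'
  by_cases hn1 : n = 1
  · rw [hn1, orderOf_eq_one_iff] at hxn
    rw [hxn]; exact one_mem _
  -- powers of x
  have hpow : ∀ k : ℕ, ∃ a' : ℕ, (centralizer ({x ^ k} : Set G)).index = p ^ a' := by
    intro k
    have h1 : centralizer ({x} : Set G) ≤ centralizer ({x ^ k} : Set G) := by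
      intro c hc
      rw [mem_centralizer_singleton_iff] at hc ⊢
      exact ((Commute.pow_right (show Commute c x from hc) k)).eq
    have h2 := index_dvd_of_le h1
    rw [hidx] at h2
    obtain ⟨a', _, ha'⟩ := (Nat.dvd_prime_pow hp).1 h2
    exact ⟨a', ha'⟩
  set r := n.minFac with hr
  have hrp : r.Prime := Nat.minFac_prime hn1
  obtain ⟨e, m, hm, hnm⟩ := Nat.exists_eq_pow_mul_and_not_dvd hn0 r hrp.ne_one
  by_cases hm1 : m = 1
  · -- prime power order
    have hxe : x ^ r ^ e = 1 := by
      rw [← orderOf_dvd_iff_pow_eq_one, hxn, hnm, hm1, mul_one]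
    by_cases hrq : p = r
    · rw [← isSolvable_normalClosure_iff]
      exact isSolvable_of_pElement hp hidx (hrq ▸ hxe)
    · exact kaz_q_aux hp hrp hrq _ G rfl x a e hidx hxe
  · have he : e ≠ 0 := by
      intro he
      rw [he, pow_zero, one_mul] at hnm
      exact hm (hnm ▸ Nat.minFac_dvd n)
    have hm0 : m ≠ 0 := by
      intro h; rw [h, mul_zero] at hnm; exact hn0 hnm
    have hre1 : 1 < r ^ e := Nat.one_lt_pow he hrp.one_lt
    have hcop : Nat.Coprime (r ^ e) m :=
      Nat.Coprime.pow_left e ((Nat.Prime.coprime_iff_not_dvd hrp).mpr hm)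
    have ho1 : orderOf (x ^ r ^ e) = m := by
      rw [orderOf_pow_of_dvd (pow_ne_zero _ hrp.ne_zero) (by rw [hxn, hnm]; exact Dvd.intro _ rfl),
        hxn, hnm, Nat.mul_div_cancel_left _ (pow_pos hrp.pos _)]
    have ho2 : orderOf (x ^ m) = r ^ e := by
      rw [orderOf_pow_of_dvd hm0 (by rw [hxn, hnm]; exact Dvd.intro_left _ rfl),
        hxn, hnm, Nat.mul_div_cancel _ (Nat.pos_of_ne_zero hm0)]
    obtain ⟨a1, ha1⟩ := hpow (r ^ e)
    obtain ⟨a2, ha2⟩ := hpow m
    have hlt1 : m < n := by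
      rw [hnm]; exact lt_mul_of_one_lt_left (Nat.pos_of_ne_zero hm0) hre1
    have hlt2 : r ^ e < n := by
      rw [hnm]
      exact lt_mul_of_one_lt_right (pow_pos hrp.pos _)
        (Nat.one_lt_iff_ne_zero_and_ne_one.mpr ⟨hm0, hm1⟩)
    have h1 := ih m hlt1 (x ^ r ^ e) a1 ho1 ha1
    have h2 := ih (r ^ e) hlt2 (x ^ m) a2 ho2 ha2
    have hb := Nat.gcd_eq_gcd_ab (r ^ e) m
    rw [hcop.gcd_eq_one] at hb
    have h3 : x = (x ^ r ^ e) ^ (Nat.gcdA (r ^ e) m) * (x ^ m) ^ (Nat.gcdB (r ^ e) m) := by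
      rw [← zpow_natCast x (r ^ e), ← zpow_natCast x m, ← zpow_mul, ← zpow_mul, ← zpow_add, ← hb]
      simp
    rw [h3]
    exact mul_mem (zpow_mem h1 _) (zpow_mem h2 _)

/-- **Kazarin's theorem.** -/
theorem kazarin {G : Type u} [Group G] [Finite G] {p : ℕ} (hp : p.Prime) (x : G) (a : ℕ)
    (hidx : (centralizer ({x} : Set G)).index = p ^ a) :
    Group.IsSolvable (normalClosure ({x} : Set G)) :=
  (isSolvable_normalClosure_iff x).mpr (kaz_aux hp _ x a rfl hidx)

end Cfsg.Agent.Tr.Kaz
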